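import Groth.Agent.BertiniHyp.Affine
import Groth.Agent.ProjPoint.Basic
import Groth.Prelude.Def_CohB1
import Mathlib.AlgebraicGeometry.Morphisms.ClosedImmersion
import Mathlib.LinearAlgebra.Dual.Lemmas

/-!
# Bertini's theorem for hyperplane sections
-/

set_option autoImplicit false

universe u

open CategoryTheory CategoryTheory.Limits AlgebraicGeometry TopologicalSpace HomogeneousLocalization

namespace Groth.Agent.BertiniHyp

variable {k : Type u} [Field k] {n : ℕ}

local notation "𝒬" => CohB1.polyGrading n k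

theorem form_eq_sum (h : ↥(CohB1.polyGrading n k 1)) :
    (h : MvPolynomial (Fin (n + 1)) k) =
      ∑ i, MvPolynomial.C (MvPolynomial.coeff (Finsupp.single i 1) (h : MvPolynomial (Fin (n + 1)) k)) * MvPolynomial.X i := by
  classical
  ext d
  rw [MvPolynomial.coeff_sum]
  simp only [MvPolynomial.coeff_C_mul, MvPolynomial.coeff_X']
  by_cases hd : d.degree = 1
  · obtain ⟨i, rfl⟩ : ∃ i, Finsupp.single i 1 = d := by
      obtain ⟨i, hi⟩ := (Finsupp.sum_eq_one_iff d).1 hd
      exact ⟨i, hi.symm⟩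
    rw [Finset.sum_eq_single i]
    · simp
    · intro b _ hb
      rw [if_neg fun e => hb ((Finsupp.single_left_inj one_ne_zero).1 e), mul_zero]
    · simp
  · rw [(show (h : MvPolynomial (Fin (n + 1)) k).IsHomogeneous 1 from h.2).coeff_eq_zero hd]
    refine (Finset.sum_eq_zero fun i _ => ?_).symm
    rw [if_neg fun e => hd (by simp [← e]), mul_zero]

/-- Every element of a standard chart is a polynomial in the coordinates. -/
theorem eval_coord_surjective (j : Fin (n + 1)) :
    Function.Surjective (MvPolynomial.eval₂Hom (ProjPoint.chartBase (R := k) j) (ProjPoint.coord j)) := fun z => by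
  have hu : IsUnit (MvPolynomial.eval₂Hom (ProjPoint.chartBase (R := k) j) (ProjPoint.coord j) (MvPolynomial.X j)) := by
    rw [MvPolynomial.eval₂Hom_X', ProjPoint.coord_self]; exact isUnit_one
  obtain ⟨l, a, ha, rfl⟩ := Away.mk_surjective _ (ProjPoint.X_mem j) z
  refine ⟨a, ?_⟩
  have h1 := ProjPoint.evalAway_mk (ProjPoint.chartBase j) (ProjPoint.coord j) hu (ProjPoint.X_mem j) l a ha
  simp only [MvPolynomial.eval₂Hom_X', ProjPoint.coord_self, one_pow, mul_one] at h1
  rw [← h1, ProjPoint.evalAway_coord, RingHom.id_apply]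

/-- A linear form divided by a coordinate. -/
theorem mk_form (j : Fin (n + 1)) (h : ↥(CohB1.polyGrading n k 1)) :
    (Away.mk 𝒬 (ProjPoint.X_mem j) 1 (h : MvPolynomial (Fin (n + 1)) k) (by simp) : Away 𝒬 (MvPolynomial.X j)) =
      MvPolynomial.eval₂Hom (ProjPoint.chartBase (R := k) j) (ProjPoint.coord j) (h : MvPolynomial (Fin (n + 1)) k) := by
  have hu : IsUnit (MvPolynomial.eval₂Hom (ProjPoint.chartBase (R := k) j) (ProjPoint.coord j) (MvPolynomial.X j)) := by
    rw [MvPolynomial.eval₂Hom_X', ProjPoint.coord_self]; exact isUnit_one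
  have hm : (h : MvPolynomial (Fin (n + 1)) k) ∈ CohB1.polyGrading n k (1 • 1) := by simp
  have h1 := ProjPoint.evalAway_mk (ProjPoint.chartBase j) (ProjPoint.coord j) hu (ProjPoint.X_mem j) 1 _ hm
  simp only [MvPolynomial.eval₂Hom_X', ProjPoint.coord_self, one_pow, mul_one] at h1
  rw [← h1, ProjPoint.evalAway_coord, RingHom.id_apply]

variable {X : Scheme.{u}} (ι : X ⟶ CohB1.ProjSpace n k)

/-- The piece of `X` over a standard chart. -/
noncomputable abbrev piece (j : Fin (n + 1)) : X.Opens := ι ⁻¹ᵁ Proj.basicOpen 𝒬 (MvPolynomial.X j)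

/-- The chart map onto the functions of a piece. -/
noncomputable def pieceMap (j : Fin (n + 1)) : Away 𝒬 (MvPolynomial.X j) →+* Γ(X, piece ι j) :=
  ((Proj.awayToSection 𝒬 (MvPolynomial.X j)) ≫ ι.app (Proj.basicOpen 𝒬 (MvPolynomial.X j))).hom

theorem pieceMap_surjective [IsClosedImmersion ι] (j : Fin (n + 1)) : Function.Surjective (pieceMap ι j) := by
  exact Function.Surjective.comp (g := (ι.app (Proj.basicOpen 𝒬 (MvPolynomial.X j))).hom)
    (f := (Proj.awayToSection 𝒬 (MvPolynomial.X j)).hom) (Scheme.Hom.app_surjective ι _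
      (Proj.isAffineOpen_basicOpen 𝒬 (MvPolynomial.X j) (ProjPoint.X_mem j) one_pos))
    (ConcreteCategory.bijective_of_isIso
      (Proj.basicOpenIsoAway 𝒬 (MvPolynomial.X j) (ProjPoint.X_mem j) one_pos).hom).2

theorem germ_pieceMap (j : Fin (n + 1)) (h : ↥(CohB1.polyGrading n k 1)) (x : X)
    (hj : (MvPolynomial.X j : MvPolynomial (Fin (n + 1)) k) ∉ (ι.base x).asHomogeneousIdeal) :
    X.presheaf.germ (piece ι j) x hj (pieceMap ι j (Away.mk 𝒬 (ProjPoint.X_mem j) 1 (h : MvPolynomial (Fin (n + 1)) k) (by simp))) =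
      (ι.stalkMap x).hom ((Proj.stalkIso' 𝒬 (ι.base x)).symm
        (HomogeneousLocalization.mk ⟨1, h, ⟨MvPolynomial.X j, MvPolynomial.isHomogeneous_X k j⟩, hj⟩)) := by
  refine (Scheme.Hom.germ_stalkMap_apply ι _ x hj _).symm.trans (congrArg (ι.stalkMap x).hom ?_)
  refine (RingEquiv.eq_symm_apply _).2 ?_
  refine (Proj.stalkIso'_germ 𝒬 _ (ι.base x) hj _).trans ?_
  apply HomogeneousLocalization.val_injective
  erw [ProjectiveSpectrum.Proj.awayToSection_apply]
  rw [HomogeneousLocalization.Away.val_mk, Localization.mk_eq_mk', IsLocalization.map_mk',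
    HomogeneousLocalization.val_mk, ← Localization.mk_eq_mk']
  refine Localization.mk_eq_mk_iff.mpr ?_
  rw [Localization.r_iff_exists]
  exact ⟨1, by simp⟩

/-- Off a proper linear subspace, a linear form does not vanish at a given point. -/
theorem exists_poly_notMem (p : ProjectiveSpectrum 𝒬) :
    ∃ g : MvPolynomial (Fin (n + 1)) k, g ≠ 0 ∧ ∀ h : ↥(CohB1.polyGrading n k 1),
      MvPolynomial.eval (fun i => MvPolynomial.coeff (Finsupp.single i 1) (h : MvPolynomial (Fin (n + 1)) k)) g ≠ 0 →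
        (h : MvPolynomial (Fin (n + 1)) k) ∉ p.asHomogeneousIdeal := by
  obtain ⟨j, hj⟩ := Opens.mem_iSup.mp ((ProjPoint.iSup_basicOpen_X (n := n) (R := k)).ge (Opens.mem_top p))
  let L : (Fin (n + 1) → k) →ₗ[k] MvPolynomial (Fin (n + 1)) k :=
    Fintype.linearCombination k fun i => MvPolynomial.X i
  let W : Submodule k (Fin (n + 1) → k) :=
    (p.asHomogeneousIdeal.toIdeal.restrictScalars k).comap L
  have hW : W < ⊤ := lt_top_iff_ne_top.2 fun e => hj (by
    have h1 : Pi.single j (1 : k) ∈ W := e ▸ Submodule.mem_top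
    simpa [W, L, Fintype.linearCombination_apply_single] using h1)
  obtain ⟨φ, hφ, hWφ⟩ := W.exists_le_ker_of_lt_top hW
  refine ⟨∑ i, MvPolynomial.C (φ (Pi.single i 1)) * MvPolynomial.X i, fun e => hφ ?_, fun h hh hmem => hh ?_⟩
  · refine LinearMap.pi_ext' fun i => LinearMap.ext_ring ?_
    have := congrArg (MvPolynomial.eval (Pi.single i (1 : k))) e
    simpa [Pi.single_apply] using this
  · let a : Fin (n + 1) → k := fun i => MvPolynomial.coeff (Finsupp.single i 1) (h : MvPolynomial (Fin (n + 1)) k)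
    have ha : a ∈ W := by
      show L a ∈ p.asHomogeneousIdeal.toIdeal
      rw [show L a = (h : MvPolynomial (Fin (n + 1)) k) by
        conv_rhs => rw [form_eq_sum h]
        simp [L, a, Fintype.linearCombination_apply, MvPolynomial.smul_eq_C_mul]]
      exact hmem
    have h2 : φ a = 0 := hWφ ha
    rw [show a = ∑ i, a i • (Pi.single i (1 : k) : Fin (n + 1) → k) from (Finset.univ_sum_single a).symm.trans
      (Finset.sum_congr rfl fun i _ => by simp [← Pi.single_smul]), map_sum] at h2
    simpa [map_smul, mul_comm, a] using h2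

theorem bertini_hyperplane [IsAlgClosed k] [IsIntegral X] [IsClosedImmersion ι]
    (hreg : ∀ x : ↥X, IsRegularLocalRing ↑(X.presheaf.stalk x)) :
    ∃ g : MvPolynomial (Fin (n + 1)) k, g ≠ 0 ∧
      ∀ h : ↥(CohB1.polyGrading n k 1),
        MvPolynomial.eval (fun i => MvPolynomial.coeff (Finsupp.single i 1) (h : MvPolynomial (Fin (n + 1)) k)) g ≠ 0 →
          (∃ x : ↥X, (h : MvPolynomial (Fin (n + 1)) k) ∉ (ι.base x).asHomogeneousIdeal) ∧
          ∀ x : ↥X, IsClosed ({x} : Set ↥X) →
            (h : MvPolynomial (Fin (n + 1)) k) ∈ (ι.base x).asHomogeneousIdeal →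
            ∀ (j : Fin (n + 1))
              (hj : (MvPolynomial.X j : MvPolynomial (Fin (n + 1)) k) ∉ (ι.base x).asHomogeneousIdeal),
              IsRegularLocalRing (↑(X.presheaf.stalk x) ⧸ Ideal.span
                {(ι.stalkMap x).hom ((Proj.stalkIso' (CohB1.polyGrading n k) (ι.base x)).symm
                  (HomogeneousLocalization.mk
                    ⟨1, h, ⟨MvPolynomial.X j, MvPolynomial.isHomogeneous_X k j⟩, hj⟩))}) := by
  have hι : IsAffineHom ι := inferInstance
  have hU : ∀ j, IsAffineOpen (piece ι j) := fun j =>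
    hι.isAffine_preimage _ (Proj.isAffineOpen_basicOpen 𝒬 (MvPolynomial.X j) (ProjPoint.X_mem j) one_pos)
  letI : ∀ j, Algebra k Γ(X, piece ι j) := fun j => ((pieceMap ι j).comp (ProjPoint.chartBase j)).toAlgebra
  let g : ∀ j, Fin (n + 1) → Γ(X, piece ι j) := fun j i => pieceMap ι j (ProjPoint.coord j i)
  have hae : ∀ (j : Fin (n + 1)) (p : MvPolynomial (Fin (n + 1)) k), MvPolynomial.aeval (R := k) (g j) p =
      pieceMap ι j (MvPolynomial.eval₂Hom (ProjPoint.chartBase j) (ProjPoint.coord j) p) := fun j p => by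
    rw [MvPolynomial.map_eval₂Hom]; rfl
  have hsurj : ∀ j, Function.Surjective (MvPolynomial.aeval (R := k) (g j)) := fun j y => by
    obtain ⟨z, rfl⟩ := pieceMap_surjective ι j y
    obtain ⟨p, rfl⟩ := eval_coord_surjective j z
    exact ⟨p, hae j p⟩
  haveI hft : ∀ j, Algebra.FiniteType k Γ(X, piece ι j) := fun j =>
    Algebra.FiniteType.of_surjective (MvPolynomial.aeval (R := k) (g j)) (hsurj j)
  haveI hsm : ∀ j, Algebra.Smooth k Γ(X, piece ι j) := fun j => by
    refine smooth_of_regular fun P hP => ?_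
    let y : PrimeSpectrum Γ(X, piece ι j) := ⟨P, hP.isPrime⟩
    have hy : (hU j).fromSpec y ∈ piece ι j := (hU j).range_fromSpec.le ⟨y, rfl⟩
    letI := TopCat.Presheaf.algebra_section_stalk X.presheaf (⟨(hU j).fromSpec y, hy⟩ : piece ι j)
    haveI : IsLocalization.AtPrime (X.presheaf.stalk ((hU j).fromSpec y)) y.asIdeal := (hU j).isLocalization_stalk' y hy
    haveI := hreg ((hU j).fromSpec y)
    exact IsRegularLocalRing.of_ringEquiv (IsLocalization.algEquiv y.asIdeal.primeCompl
      (X.presheaf.stalk ((hU j).fromSpec y)) (Localization.AtPrime P)).toRingEquiv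
  choose p hp hps using fun j => BertiniZero.bertini_jets (k := k) (0 : Γ(X, piece ι j)) (g j)
    (fun P hP a => jets_of_generators (g j) j (by simp [g, ProjPoint.coord_self]) (hsurj j) P hP a)
  haveI : Nonempty X := inferInstance
  obtain ⟨g₀, hg₀, hg₀'⟩ := exists_poly_notMem (ι.base (genericPoint X))
  refine ⟨g₀ * ∏ j, p j, mul_ne_zero hg₀ (Finset.prod_ne_zero_iff.2 fun j _ => hp j), fun h hh => ?_⟩
  rw [map_mul, map_prod, mul_ne_zero_iff, Finset.prod_ne_zero_iff] at hh
  refine ⟨⟨_, hg₀' h hh.1⟩, fun x _ hx j hj => ?_⟩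
  let a : Fin (n + 1) → k := fun i => MvPolynomial.coeff (Finsupp.single i 1) (h : MvPolynomial (Fin (n + 1)) k)
  let G : Γ(X, piece ι j) := 0 + ∑ i, algebraMap k Γ(X, piece ι j) (a i) * g j i
  haveI : Algebra.Smooth k (Γ(X, piece ι j) ⧸ Ideal.span {G}) := hps j a (hh.2 j (Finset.mem_univ j))
  let w : (piece ι j : X.Opens) := ⟨x, hj⟩
  letI := TopCat.Presheaf.algebra_section_stalk X.presheaf w
  haveI : IsLocalization.AtPrime (X.presheaf.stalk x) ((hU j).primeIdealOf w).asIdeal := (hU j).isLocalization_stalk w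
  have hG : algebraMap Γ(X, piece ι j) (X.presheaf.stalk x) G =
      (ι.stalkMap x).hom ((Proj.stalkIso' 𝒬 (ι.base x)).symm
        (HomogeneousLocalization.mk ⟨1, h, ⟨MvPolynomial.X j, MvPolynomial.isHomogeneous_X k j⟩, hj⟩)) := by
    rw [← germ_pieceMap ι j h x hj, mk_form, ← hae]
    refine congrArg (X.presheaf.germ (piece ι j) x hj).hom ?_
    conv_rhs => rw [form_eq_sum h]
    simp [G, a]
  rw [← hG]
  refine regular_quotient_of_smooth (k := k) G ((hU j).primeIdealOf w).asIdeal ?_
  by_contra hGP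
  have h1 : IsUnit (algebraMap Γ(X, piece ι j) (X.presheaf.stalk x) G) :=
    (IsLocalization.AtPrime.isUnit_to_map_iff (X.presheaf.stalk x) ((hU j).primeIdealOf w).asIdeal G).2 hGP
  rw [hG] at h1
  have h2 := ((isUnit_map_iff (ι.stalkMap x).hom _).1 h1).map (Proj.stalkIso' 𝒬 (ι.base x))
  erw [RingEquiv.apply_symm_apply] at h2
  rw [← HomogeneousLocalization.isUnit_iff_isUnit_val, HomogeneousLocalization.val_mk,
    Localization.mk_eq_mk', IsLocalization.AtPrime.isUnit_mk'_iff] at h2
  exact h2 hx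

end Groth.Agent.BertiniHyp
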