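import Groth.Agent.BertiniZero.Smooth
import Groth.Agent.CotLib.SmoothRegular
import Mathlib.RingTheory.Jacobson.Ring

/-!
# Hyperplane sections of affine pieces
-/

set_option autoImplicit false

universe u

namespace Groth.Agent.BertiniHyp

variable {k : Type u} [Field k] [IsAlgClosed k]

/-- An algebra of finite type over an algebraically closed field with regular local rings is smooth. -/
theorem smooth_of_regular {A : Type u} [CommRing A] [Algebra k A] [Algebra.FiniteType k A]
    (h : ∀ P : Ideal A, ∀ _ : P.IsMaximal, IsRegularLocalRing (Localization.AtPrime P)) : Algebra.Smooth k A := by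
  haveI : Algebra.FinitePresentation k A := Algebra.FinitePresentation.of_finiteType.1 ‹_›
  refine ⟨Algebra.smoothLocus_eq_univ_iff.1 (Set.eq_univ_iff_forall.2 fun q => ?_), inferInstance⟩
  obtain ⟨P, hP, hqP⟩ := Ideal.exists_le_maximal q.asIdeal q.isPrime.ne_top
  haveI := hP
  have hmem : (⟨P, hP.isPrime⟩ : PrimeSpectrum A) ∈ Algebra.smoothLocus k A := by
    haveI := CotLib.isGeometricallyReduced_of_isAlgClosed (k := k) (K := P.ResidueField)
    exact (CotLib.isSmoothAt_iff_regular P).2 (h P hP)
  exact Specializes.mem_open ((PrimeSpectrum.le_iff_specializes q ⟨P, hP.isPrime⟩).1 hqP) Algebra.isOpen_smoothLocus hmem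

/-- Functions with a unit among them generating the algebra give all jets. -/
theorem jets_of_generators {A : Type u} [CommRing A] [Algebra k A] [Algebra.FiniteType k A] {m : ℕ} (g : Fin m → A)
    (j : Fin m) (hj : g j = 1) (hsurj : Function.Surjective (MvPolynomial.aeval (R := k) g))
    (P : Ideal A) (hP : P.IsMaximal) (a : A) :
    ∃ c : Fin m → k, a - ∑ i, algebraMap k A (c i) * g i ∈ P ^ 2 := by
  haveI := hP
  letI := Ideal.Quotient.field P
  haveI : Module.Finite k (A ⧸ P) := finite_of_finite_type_of_isJacobsonRing k (A ⧸ P)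
  have hb : Function.Surjective (algebraMap k (A ⧸ P)) := IsAlgClosed.algebraMap_bijective_of_isIntegral.2
  choose v hv using fun i => hb (Ideal.Quotient.mk P (g i))
  have hvP : ∀ i, g i - algebraMap k A (v i) ∈ P := fun i => by
    rw [← Ideal.Quotient.eq_zero_iff_mem, map_sub, Ideal.Quotient.mk_algebraMap, hv, sub_self]
  let W : Submodule k A :=
    Submodule.span k (Set.range g) ⊔ (P ^ 2).restrictScalars k
  suffices hW : a ∈ W by
    obtain ⟨x, hx, y, hy, rfl⟩ := Submodule.mem_sup.1 hW
    obtain ⟨c, rfl⟩ := (Submodule.mem_span_range_iff_exists_fun k).1 hx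
    exact ⟨c, by simpa [Algebra.smul_def] using hy⟩
  have hg : ∀ l, g l ∈ W := fun l => Submodule.mem_sup_left (Submodule.subset_span ⟨l, rfl⟩)
  have hgg : ∀ l i, g l * g i ∈ W := fun l i => by
    have h2 : (g l - algebraMap k A (v l)) * (g i - algebraMap k A (v i)) ∈ W :=
      Submodule.mem_sup_right (by rw [Submodule.restrictScalars_mem, pow_two]; exact Ideal.mul_mem_mul (hvP l) (hvP i))
    rw [show g l * g i = (g l - algebraMap k A (v l)) * (g i - algebraMap k A (v i)) + v l • g i + v i • g l -
      (v l * v i) • g j by simp only [Algebra.smul_def, map_mul, hj]; ring]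
    exact W.sub_mem (W.add_mem (W.add_mem h2 (W.smul_mem _ (hg i))) (W.smul_mem _ (hg l))) (W.smul_mem _ (hg j))
  have hmul : ∀ x ∈ W, ∀ i, x * g i ∈ W := fun x hx i => by
    obtain ⟨y, hy, z, hz, rfl⟩ := Submodule.mem_sup.1 hx
    rw [add_mul]
    refine W.add_mem ?_ (Submodule.mem_sup_right (Ideal.mul_mem_right _ (P ^ 2) hz))
    clear hx
    induction hy using Submodule.span_induction with
    | mem y hy => obtain ⟨l, rfl⟩ := hy; exact hgg l i
    | zero => rw [zero_mul]; exact W.zero_mem
    | add y y' _ _ h h' => rw [add_mul]; exact W.add_mem h h'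
    | smul c y _ h => rw [smul_mul_assoc]; exact W.smul_mem c h
  obtain ⟨p, rfl⟩ := hsurj a
  induction p using MvPolynomial.induction_on with
  | C r =>
    rw [MvPolynomial.aeval_C, show algebraMap k A r = r • g j by rw [hj, Algebra.algebraMap_eq_smul_one]]
    exact W.smul_mem r (hg j)
  | add p q hp hq => rw [map_add]; exact W.add_mem hp hq
  | mul_X p i hp => rw [map_mul, MvPolynomial.aeval_X]; exact hmul _ hp i

/-- A smooth quotient by one element gives regular quotients of the local rings. -/
theorem regular_quotient_of_smooth {A S : Type u} [CommRing A] [Algebra k A] [Algebra.FiniteType k A] (G : A)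
    [Algebra.Smooth k (A ⧸ Ideal.span {G})] (P : Ideal A) [P.IsPrime] (hG : G ∈ P) [CommRing S] [Algebra A S]
    [IsLocalization.AtPrime S P] : IsRegularLocalRing (S ⧸ Ideal.span {algebraMap A S G}) := by
  let I : Ideal A := Ideal.span {G}
  have hIP : I ≤ P := Ideal.span_le.2 (Set.singleton_subset_iff.2 hG)
  let Q : Ideal (A ⧸ I) := P.map (Ideal.Quotient.mk I)
  haveI hQ : Q.IsPrime := Ideal.map_isPrime_of_surjective Ideal.Quotient.mk_surjective (by rwa [Ideal.mk_ker])
  have hQP : Algebra.algebraMapSubmonoid (A ⧸ I) P.primeCompl = Q.primeCompl := by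
    ext x
    obtain ⟨x, rfl⟩ := Ideal.Quotient.mk_surjective x
    have hx : Ideal.Quotient.mk I x ∈ Q ↔ x ∈ P := by
      rw [← Ideal.mem_comap, Ideal.comap_map_of_surjective _ Ideal.Quotient.mk_surjective, ← RingHom.ker_eq_comap_bot,
        Ideal.mk_ker, sup_eq_left.2 hIP]
    constructor
    · rintro ⟨y, hy, hyx⟩
      intro h
      obtain ⟨y', hy', e⟩ := (⟨y, hy, hyx⟩ : ∃ y, y ∈ P.primeCompl ∧ algebraMap A (A ⧸ I) y = Ideal.Quotient.mk I x)
      refine hy' ?_
      have : y' - x ∈ P := hIP ((Ideal.Quotient.eq).1 e)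
      simpa using P.add_mem this (hx.1 h)
    · intro h
      exact ⟨x, fun h' => h (hx.2 h'), rfl⟩
  have hspan : I.map (algebraMap A S) = Ideal.span {algebraMap A S G} := by
    rw [Ideal.map_span, Set.image_singleton]
  haveI hloc : IsLocalization.AtPrime (S ⧸ I.map (algebraMap A S)) Q := by
    show IsLocalization Q.primeCompl _
    rw [← hQP]
    infer_instance
  haveI : Algebra.IsSmoothAt k Q := by
    show Algebra.FormallySmooth k (Localization.AtPrime Q)
    exact Algebra.FormallySmooth.comp k (A ⧸ I) _
  haveI := CotLib.isGeometricallyReduced_of_isAlgClosed (k := k) (K := Q.ResidueField)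
  haveI : IsRegularLocalRing (Localization.AtPrime Q) := (CotLib.isSmoothAt_iff_regular Q).1 ‹_›
  exact IsRegularLocalRing.of_ringEquiv ((IsLocalization.algEquiv Q.primeCompl (Localization.AtPrime Q)
    (S ⧸ I.map (algebraMap A S))).toRingEquiv.trans (Ideal.quotEquivOfEq hspan))

end Groth.Agent.BertiniHyp
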